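import Cfsg.Agent.Lib.OddBaseTwo.Basic
import Mathlib.RingTheory.Coprime.Basic

/-!
# Bases of size two for coprime solvable linear groups: basic notions

* `BaseBelowC n`: completely reducible solvable groups of order prime to that of the module have
  bases of size two, on modules of order below `n`.
-/

set_option autoImplicit false

namespace Cfsg.Agent.CoprimeBase

open OddBaseTwo

universe u

/-- The statement for all completely reducible coprime solvable groups on smaller modules. -/
def BaseBelowC (n : ℕ) : Prop :=
  ∀ (A : Type u) [Group A] [Finite A] (V : Type u) [AddCommGroup V] [Finite V]
    [DistribMulAction A V], Nat.card V < n → Group.IsSolvable A →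
    (Nat.card A).Coprime (Nat.card V) → IsCR A V → HasBase A V

/-- The statement for all completely reducible coprime solvable groups. -/
def BaseAllC : Prop := ∀ n : ℕ, BaseBelowC.{u} n

end Cfsg.Agent.CoprimeBase
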