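import Cfsg.Agent.Lib.CoprimeBase.Basic
import Cfsg.Agent.Lib.CoprimeBase.Colour.Three
import Cfsg.Agent.Lib.BaseThree.Main
import Cfsg.Agent.Lib.OddBaseTwo.Main

/-!
# The imprimitive case for bases of size two in coprime order

`hasBase_of_decomp`: pairs `(x, y + k • x)` for a base `(x, y)` of a summand are in different orbits,
and a colouring with few colours fixed only by what fixes every summand distributes them.
-/

set_option autoImplicit false
set_option linter.style.haveILetI false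

namespace Cfsg.Agent.CoprimeBase

open OddBaseTwo MulAction

universe u

variable {A : Type u} [Group A] {V : Type u} [AddCommGroup V] [DistribMulAction A V]
  {ι : Type u} [Fintype ι] [MulAction A ι]

/-- An element of order prime to `p` cannot shift `y` by a multiple of a fixed point. -/
theorem eq_of_shift {B W : Type u} [Group B] [Finite B] [AddCommGroup W] [DistribMulAction B W]
    {p : ℕ} [Fact p.Prime] (hp : (Nat.card B).Coprime p) (hpW : ∀ w : W, p • w = 0) {x y : W}
    (hx0 : x ≠ 0) {g : B} (hgx : g • x = x) {i j : ℕ} (hi : i < p) (hj : j < p)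
    (h : g • (y + i • x) = y + j • x) : i = j ∧ g • y = y := by
  have hgy : g • y = y + ((j : ℤ) - i) • x := by
    rw [smul_add, smul_comm g i x, hgx] at h
    rw [sub_smul, natCast_zsmul, natCast_zsmul, eq_sub_of_add_eq h]
    abel
  have hm : ∀ m : ℕ, (g ^ m) • y = y + ((m : ℤ) * ((j : ℤ) - i)) • x := fun m => by
    induction m with
    | zero => simp
    | succ m ih =>
      rw [pow_succ', mul_smul, ih, smul_add, hgy, smul_comm g _ x, hgx, add_assoc, ← add_smul]
      congr 2
      push_cast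
      ring
  have h1 := hm (orderOf g)
  rw [pow_orderOf_eq_one, one_smul, left_eq_add] at h1
  have hord : addOrderOf x = p := addOrderOf_eq_prime (hpW x) hx0
  rw [← addOrderOf_dvd_iff_zsmul_eq_zero, hord] at h1
  have hij : i = j := by
    rcases (Nat.prime_iff_prime_int.1 Fact.out).dvd_or_dvd h1 with h2 | h2
    · rw [Int.natCast_dvd_natCast] at h2
      exact absurd ((Nat.Coprime.coprime_dvd_left (orderOf_dvd_natCard g) hp).symm.eq_one_of_dvd h2)
        (Fact.out : p.Prime).one_lt.ne'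
    · obtain ⟨c, hc⟩ := h2
      have h3 : ((j : ℤ) - i).natAbs < p := by omega
      have h4 : (j : ℤ) - i = 0 := Int.eq_zero_of_dvd_of_natAbs_lt_natAbs ⟨c, hc⟩ (by simpa using h3)
      omega
  refine ⟨hij, ?_⟩
  rw [hgy, hij, sub_self, zero_smul, add_zero]

theorem hasBase_of_decomp [Finite A] [Finite V] (hB : BaseBelowC.{u} (Nat.card V))
    (hsol : Group.IsSolvable A) (hcop : (Nat.card A).Coprime (Nat.card V)) (hirr : IsIrr A V)
    {W : ι → AddSubgroup V} (hd : IsDecomp (A := A) W) (h2 : 1 < Fintype.card ι) : HasBase A V := by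
  classical
  haveI := hsol
  obtain ⟨i₀⟩ : Nonempty ι := Fintype.card_pos_iff.1 (by omega)
  -- transitivity
  have htr : ∀ i, i ∈ orbit A i₀ := by
    intro i
    by_contra hi
    let S : ι → AddSubgroup V := fun j => if j ∈ orbit A i₀ then W j else ⊥
    have hS : ∀ (a : A) (j : ι), ∀ x ∈ S j, a • x ∈ S (a • j) := by
      intro a j x hx
      by_cases hj : j ∈ orbit A i₀
      · simp only [S, if_pos hj] at hx
        simp only [S, if_pos (show a • j ∈ orbit A i₀ by rw [← orbit_eq_iff.2 hj]; exact mem_orbit j a)]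
        exact hd.smul_mem a j x hx
      · simp only [S, if_neg hj, AddSubgroup.mem_bot] at hx
        rw [hx, smul_zero]; exact zero_mem _
    have h := hd.family_top hirr S (fun j => by simp only [S]; split_ifs; exacts [le_rfl, bot_le]) hS
      (i₀ := i₀) (by simp only [S, if_pos (mem_orbit_self i₀)]; exact hd.ne_bot i₀) i
    simp only [S, if_neg hi, le_bot_iff] at h
    exact hd.ne_bot i h
  choose rep hrep using htr
  replace hrep : ∀ i, rep i • i₀ = i := hrep
  set B := stabilizer A i₀ with hBdef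
  have hWinv : IsInv B V (W i₀) := fun b x hx => by
    have := hd.smul_mem b i₀ x hx
    rwa [mem_stabilizer_iff.1 b.2] at this
  letI := subAction (W i₀) hWinv
  have hWirr : IsIrr B (W i₀) := by
    intro U hU
    by_cases hU0 : U = ⊥
    · exact Or.inl hU0
    right
    let S : ι → AddSubgroup V := fun j =>
      (U.map (W i₀).subtype).comap (DistribSMul.toAddMonoidHom V (rep j)⁻¹)
    have hmemS : ∀ j x, x ∈ S j ↔ ∃ y ∈ U, (y : V) = (rep j)⁻¹ • x := fun j x => Iff.rfl
    have hb : ∀ (a : A) (j : ι), (rep (a • j))⁻¹ * a * rep j ∈ B := fun a j => by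
      rw [hBdef, mem_stabilizer_iff, mul_smul, mul_smul, hrep, inv_smul_eq_iff, hrep]
    have hSW : ∀ j, S j ≤ W j := fun j x hx => by
      obtain ⟨y, -, hy⟩ := (hmemS j x).1 hx
      have := hd.smul_mem (rep j) i₀ _ y.2
      rwa [hrep, hy, smul_inv_smul] at this
    have hS : ∀ (a : A) (j : ι), ∀ x ∈ S j, a • x ∈ S (a • j) := fun a j x hx => by
      obtain ⟨y, hy, hyx⟩ := (hmemS j x).1 hx
      refine (hmemS _ _).2 ⟨(⟨_, hb a j⟩ : B) • y, hU _ y hy, ?_⟩
      show ((rep (a • j))⁻¹ * a * rep j) • (y : V) = _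
      rw [hyx, mul_smul, mul_smul, smul_inv_smul]
    obtain ⟨⟨y, hy⟩, hy0⟩ := AddSubgroup.ne_bot_iff_exists_ne_zero.1 hU0
    have hne : S i₀ ≠ ⊥ := fun h => hy0 (Subtype.ext (Subtype.ext (by
      have hm : rep i₀ • (y : V) ∈ S i₀ := (hmemS _ _).2 ⟨y, hy, (inv_smul_smul _ _).symm⟩
      rw [h, AddSubgroup.mem_bot, smul_eq_zero_iff_eq] at hm
      exact hm)))
    refine eq_top_iff.2 fun z _ => ?_
    have hm : rep i₀ • (z : V) ∈ S i₀ := hd.family_top hirr S hSW hS hne i₀ (by
      have := hd.smul_mem (rep i₀) i₀ _ z.2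
      rwa [hrep] at this)
    obtain ⟨w, hw, hwz⟩ := (hmemS _ _).1 hm
    rw [inv_smul_smul] at hwz
    exact Subtype.ext hwz ▸ hw
  haveI : Nontrivial (W i₀) := (AddSubgroup.nontrivial_iff_ne_bot _).2 (hd.ne_bot i₀)
  have hWlt : Nat.card (W i₀) < Nat.card V := card_lt_of_ne_top fun h => by
    obtain ⟨j, hj⟩ := Fintype.exists_ne_of_one_lt_card h2 i₀
    obtain ⟨⟨x, hx⟩, hx0⟩ := AddSubgroup.ne_bot_iff_exists_ne_zero.1 (hd.ne_bot j)
    have h1 := hd.eq_of_sum_eq (f := Pi.single j x) (g := Pi.single i₀ x)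
      (fun k => by by_cases hk : k = j
                   · subst hk; simpa using hx
                   · simp [hk])
      (fun k => by by_cases hk : k = i₀
                   · subst hk; simp [h]
                   · simp [hk]) (by simp) j
    exact hx0 (Subtype.ext (by simpa [hj] using h1))
  obtain ⟨p, hp, hpW⟩ := exists_nsmul_eq_zero hWirr
  haveI := Fact.mk hp
  have hcopB : (Nat.card B).Coprime (Nat.card (W i₀)) :=
    (hcop.coprime_dvd_left B.card_subgroup_dvd_card).coprime_dvd_right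
      (AddSubgroup.card_addSubgroup_dvd_card _)
  obtain ⟨x, y, hx0, hxy⟩ : ∃ x y : W i₀, x ≠ 0 ∧
      ∀ b : B, b • x = x → b • y = y → ∀ z : W i₀, b • z = z := by
    obtain ⟨x, y, hxy⟩ := hB B (W i₀) hWlt inferInstance hcopB hWirr.isCR
    by_cases hx : x = 0
    · by_cases hy : y = 0
      · obtain ⟨z, hz⟩ := exists_ne (0 : W i₀)
        exact ⟨z, 0, hz, fun b _ _ => hxy b (by rw [hx, smul_zero]) (by rw [hy, smul_zero])⟩
      · exact ⟨y, x, hy, fun b a c => hxy b c a⟩
    · exact ⟨x, y, hx, hxy⟩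
  have hpV : p ∣ Nat.card V := by
    refine dvd_trans ?_ (AddSubgroup.card_addSubgroup_dvd_card (W i₀))
    rw [← addOrderOf_eq_prime (hpW x) hx0]
    exact addOrderOf_dvd_natCard x
  have hpA : (Nat.card A).Coprime p := hcop.coprime_dvd_right hpV
  haveI : Nonempty ι := ⟨i₀⟩
  rcases hp.eq_two_or_odd' with hp2 | hpodd
  · exact hasBase hsol (Nat.coprime_two_right.1 (hp2 ▸ hpA)) hirr.isCR
  obtain ⟨col, hcol, hrig⟩ : ∃ col : ι → ℕ, (∀ i, col i < p) ∧
      ∀ g : A, (∀ i, col (g • i) = col i) → ∀ i, g • i = i := by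
    by_cases hp3 : p = 3
    · obtain ⟨c, hc⟩ := Colour.exists_three_colourings (G := A) (X := ι) hsol
        ((Nat.prime_three.coprime_iff_not_dvd).1 (hp3 ▸ hpA).symm)
      exact ⟨fun i => (c 0 i).val, fun i => (ZMod.val_lt (c 0 i)).trans_eq hp3.symm,
        fun g hg => (hc 0 0 g fun i => ZMod.val_injective _ (hg i)).2⟩
    · obtain ⟨c, hc⟩ := BaseThree.exists_five_colourings (BaseThree.baseBelow3.{u} (Nat.card ι + 1))
        (G := A) (X := ι) hsol (Nat.lt_succ_self _)
      have h5 : 5 ≤ p := by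
        obtain ⟨k, hk⟩ := hpodd
        have := hp.two_le
        omega
      exact ⟨fun i => (c 0 i).val, fun i => (ZMod.val_lt _).trans_le h5,
        fun g hg => (hc 0 0 g fun i => ZMod.val_injective _ (hg i)).2⟩
  let a : ι → V := fun i => rep i • ((x : W i₀) : V)
  let c : ι → V := fun i => rep i • ((y + col i • x : W i₀) : V)
  have hmem : ∀ (i : ι) (z : W i₀), rep i • (z : V) ∈ W i := fun i z => by
    have := hd.smul_mem (rep i) i₀ _ z.2
    rwa [hrep] at this
  refine ⟨∑ i, a i, ∑ i, c i, fun g hg0 hg1 => ?_⟩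
  have hb : ∀ i, (rep (g • i))⁻¹ * g * rep i ∈ B := fun i => by
    rw [hBdef, mem_stabilizer_iff, mul_smul, mul_smul, hrep, inv_smul_eq_iff, hrep]
  have key : ∀ i, col i = col (g • i) ∧ ∀ z : W i₀, (⟨_, hb i⟩ : B) • z = z := by
    intro i
    have e1 : (⟨_, hb i⟩ : B) • x = x := Subtype.ext (by
      show ((rep (g • i))⁻¹ * g * rep i) • (x : V) = x
      rw [mul_smul, mul_smul, inv_smul_eq_iff]
      exact hd.smul_eq_of_fixes (c := a) (fun i => hmem i _) hg0 i)
    have e2 : (⟨_, hb i⟩ : B) • (y + col i • x) = y + col (g • i) • x := Subtype.ext (by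
      show ((rep (g • i))⁻¹ * g * rep i) • ((y + col i • x : W i₀) : V) =
        ((y + col (g • i) • x : W i₀) : V)
      rw [mul_smul, mul_smul, inv_smul_eq_iff]
      exact hd.smul_eq_of_fixes (c := c) (fun i => hmem i _) hg1 i)
    obtain ⟨h3, h4⟩ := eq_of_shift (hpA.coprime_dvd_left B.card_subgroup_dvd_card) hpW hx0 e1
      (hcol i) (hcol _) e2
    exact ⟨h3, hxy _ e1 h4⟩
  have hfixed : ∀ i, g • i = i := hrig g fun i => (key i).1.symm
  intro z
  obtain ⟨w, rfl⟩ := hd.bij.2 z
  rw [Finset.smul_sum]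
  refine Finset.sum_congr rfl fun i _ => ?_
  have hx : (rep i)⁻¹ • (w i : V) ∈ W i₀ := by
    have := hd.smul_mem (rep i)⁻¹ i _ (w i).2
    rwa [inv_smul_eq_iff.2 (hrep i).symm] at this
  have h3 : ((rep (g • i))⁻¹ * g * rep i) • (rep i)⁻¹ • (w i : V) = (rep i)⁻¹ • (w i : V) :=
    congrArg Subtype.val ((key i).2 ⟨_, hx⟩)
  rw [hfixed i, mul_smul, mul_smul, smul_inv_smul, smul_left_cancel_iff] at h3
  exact h3

end Cfsg.Agent.CoprimeBase
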