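import Cfsg.Agent.Lib.CoprimeBase.Basic
import Cfsg.Agent.Lib.OddBaseTwo.Count
import Cfsg.Agent.Lib.BaseThree.Main

/-!
# Bases of size two: the primitive case with a large section, by counting

* `fixed_sq_le_M`, `fixed_four_le`: fixed point groups in the centraliser of the scalars.
* `index_C_le`: the field automorphisms induced number at most `|K|`.
* `index_Z_le`: `|C : Z| ≤ |M/Z|⁴`, from bases of size three on `M/Z`.
* `hasBase_primitive_large`: two vectors with trivial stabiliser once `|M/Z| ≥ 64²`.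
-/

set_option autoImplicit false
set_option linter.unusedSectionVars false
set_option linter.unusedVariables false
set_option linter.style.haveILetI false

namespace Cfsg.Agent.CoprimeBase

open scoped commutatorElement
open OddBaseTwo

universe u v w

variable {A : Type u} [Group A] [Finite A] {K : Type w} [Field K] [Finite K] {V : Type v}
  [AddCommGroup V] [Module K V] [DistribMulAction A V] [FaithfulSMul A V] [Finite V]
  (P : PrimData A K V)

/-- An element of `M` outside the scalars fixes at most a square root. -/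
theorem fixed_sq_le_M {y : A} (hy : y ∈ P.M) (hyZ : y ∉ P.Z) :
    Nat.card (fixSub (V := V) y) ^ 2 ≤ Nat.card V := by
  obtain ⟨x, hx, hne⟩ : ∃ x ∈ P.M, y * x ≠ x * y := by
    by_contra! h
    exact hyZ (P.good.center y hy h)
  set t : ↥P.Z := ⟨⁅y, x⁆, P.good.comm y hy x hx⟩
  have ht1 : t ≠ 1 := fun h => hne (commutatorElement_eq_one_iff_mul_comm.1 (congrArg Subtype.val h))
  have hrel : ∀ v : V, y • x • v = ((P.χ t : Kˣ) : K) • x • y • v := fun v => by
    rw [← P.scalar t, ← mul_smul, ← mul_smul, ← mul_smul]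
    congr 1
    show y * x = ⁅y, x⁆ * x * y
    rw [commutatorElement_def]; group
  have h1 : fixSub (V := V) y ⊓ fixSub (x * y * x⁻¹) = ⊥ := eq_bot_iff.2 fun v hv => by
    obtain ⟨hv1, hv2⟩ := hv
    change y • v = v at hv1
    change (x * y * x⁻¹) • v = v at hv2
    refine AddSubgroup.mem_bot.2 (P.fix_Z ht1 ?_)
    have h3 : y • x⁻¹ • v = x⁻¹ • v := by
      rw [mul_smul, mul_smul, ← eq_inv_smul_iff] at hv2
      exact hv2
    have h4 := hrel (x⁻¹ • v)
    rw [h3, smul_inv_smul, hv1] at h4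
    rw [P.scalar]
    exact h4.symm
  have h2 := card_mul_card_le (fixSub (V := V) y) (fixSub (x * y * x⁻¹))
  rwa [h1, AddSubgroup.card_bot, one_mul, card_fix_conj, ← sq] at h2

/-- An element of the centraliser outside the scalars fixes at most three quarters. -/
theorem fixed_four_le {g : A} (hg : g ∈ P.C) (hgZ : g ∉ P.Z) :
    Nat.card (fixSub (V := V) g) ^ 4 ≤ Nat.card V ^ 3 := by
  obtain ⟨x, hx, hne⟩ : ∃ x ∈ P.M, g * x ≠ x * g := by
    by_contra! h
    exact hgZ (P.cent g hg h)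
  set y := x * g * x⁻¹ * g⁻¹ with hy
  have hyM : y ∈ P.M := by
    rw [show y = x * (g * x⁻¹ * g⁻¹) by rw [hy]; group]
    exact P.M.mul_mem hx (P.normal_M.conj_mem _ (inv_mem hx) g)
  have hsub : fixSub (V := V) g ⊓ fixSub (x * g * x⁻¹) ≤ fixSub y := fun v ⟨h1, h2⟩ => by
    change g • v = v at h1
    change (x * g * x⁻¹) • v = v at h2
    show y • v = v
    rw [hy]
    conv_lhs => rw [← h1]
    rw [← mul_smul, inv_mul_cancel_right, h2]
  have h := (card_mul_card_le (fixSub (V := V) g) (fixSub (x * g * x⁻¹))).trans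
    (Nat.mul_le_mul_right _ (AddSubgroup.card_le_of_le hsub))
  rw [card_fix_conj, ← sq] at h
  have hy2 : Nat.card (fixSub (V := V) y) ^ 2 ≤ Nat.card V := by
    by_cases hyZ : y ∈ P.Z
    · rw [P.card_fix_Z hyZ fun h1 => hne ?_, one_pow]
      · exact Nat.card_pos
      · calc g * x = 1 * (g * x) := (one_mul _).symm
          _ = y * (g * x) := by rw [h1]
          _ = x * g := by rw [hy]; group
    · exact fixed_sq_le_M P hyM hyZ
  calc Nat.card (fixSub (V := V) g) ^ 4 = (Nat.card (fixSub (V := V) g) ^ 2) ^ 2 := by ring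
    _ ≤ (Nat.card (fixSub (V := V) y) * Nat.card V) ^ 2 := Nat.pow_le_pow_left h 2
    _ = Nat.card (fixSub (V := V) y) ^ 2 * Nat.card V ^ 2 := by ring
    _ ≤ Nat.card V * Nat.card V ^ 2 := Nat.mul_le_mul_right _ hy2
    _ = Nat.card V ^ 3 := by ring

/-- Powers of `q`, each at most `q^(3m/4)`, with product at most `q^m`. -/
theorem sum_sq_sub_one_le_four {ι : Type u} (s : Finset ι) (q m : ℕ) (d : ι → ℕ) (hq : 2 ≤ q)
    (hd : ∀ i ∈ s, 4 * d i ≤ 3 * m) (hprod : ∏ i ∈ s, q ^ d i ≤ q ^ m) :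
    ∑ i ∈ s, ((q ^ d i) ^ 2 - 1) ≤ 2 * q ^ (3 * m / 2) := by
  classical
  rcases s.eq_empty_or_nonempty with rfl | hne
  · simp
  obtain ⟨i₀, hi₀, hmax⟩ := Finset.exists_max_image s d hne
  have hone : ∀ i ∈ s, 1 ≤ q ^ d i := fun i _ => Nat.one_le_pow _ _ (by omega)
  have hd0 := hd i₀ hi₀
  by_cases hc : m ≤ 4 * d i₀
  · rw [← Finset.add_sum_erase _ _ hi₀]
    have h1 : (q ^ d i₀) ^ 2 - 1 ≤ q ^ (3 * m / 2) := by
      refine (Nat.sub_le _ _).trans ?_
      rw [← pow_mul]
      exact Nat.pow_le_pow_right (by omega) (by omega)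
    have h2 : ∑ i ∈ s.erase i₀, ((q ^ d i) ^ 2 - 1) ≤ q ^ (3 * m / 2) := by
      refine (sum_sub_one_le _ _ fun i hi => Nat.one_le_pow _ _ (hone i (Finset.mem_of_mem_erase hi))).trans
        ((Nat.sub_le _ _).trans ?_)
      rw [Finset.prod_pow]
      have h3 : q ^ d i₀ * ∏ i ∈ s.erase i₀, q ^ d i ≤ q ^ d i₀ * q ^ (m - d i₀) := by
        rw [Finset.mul_prod_erase _ (fun i => q ^ d i) hi₀, ← pow_add,
          Nat.add_sub_cancel' (by omega)]
        exact hprod
      refine (Nat.pow_le_pow_left (Nat.le_of_mul_le_mul_left h3 (by positivity)) 2).trans ?_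
      rw [← pow_mul]
      exact Nat.pow_le_pow_right (by omega) (by omega)
    omega
  · refine (sum_sq_sub_one_le_mul s _ hone (fun i hi => Nat.pow_le_pow_right (by omega) (hmax i hi)) hprod).trans ?_
    calc (q ^ d i₀ + 1) * (q ^ m - 1) ≤ (2 * q ^ d i₀) * q ^ m :=
          Nat.mul_le_mul (by have := hone i₀ hi₀; omega) (Nat.sub_le _ _)
      _ = 2 * q ^ (d i₀ + m) := by rw [pow_add, mul_assoc]
      _ ≤ 2 * q ^ (3 * m / 2) := Nat.mul_le_mul_left _ (Nat.pow_le_pow_right (by omega) (by omega))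

/-- The contribution of a coset of the scalars. -/
theorem coset_bound_four [Fintype ↥P.Z] {m : ℕ} (hm : Nat.card V = Nat.card K ^ m) {g : A}
    (hg : g ∈ P.C) (hgZ : g ∉ P.Z) :
    ∑ z : ↥P.Z, (Nat.card (fixSub (V := V) (g * (z : A))) ^ 2 - 1) ≤
      2 * Nat.card K ^ (3 * m / 2) := by
  have hgz : ∀ z : ↥P.Z, g * (z : A) ∈ P.C := fun z =>
    P.C.mul_mem hg (P.good.le_centralizer (P.good.le z.2))
  choose d hd using fun z => P.exists_card_fix_eq (hgz z)
  simp only [hd]
  refine sum_sq_sub_one_le_four _ _ _ d Finite.one_lt_card (fun z _ => ?_) ?_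
  · have h := fixed_four_le P (hgz z) fun h => hgZ (by
      simpa using P.Z.mul_mem h (inv_mem z.2))
    rw [hd, hm, ← pow_mul, ← pow_mul] at h
    have := (Nat.pow_le_pow_iff_right Finite.one_lt_card).1 h
    omega
  · rw [← hm, ← Finset.prod_congr rfl fun z _ => hd z]
    exact P.prod_fix_le hg

/-- The field automorphisms induced number at most `|K|`. -/
theorem index_C_le [Nontrivial V] (σ : A → (K ≃+* K))
    (hσ : ∀ (g : A) (c : K) (x : V), g • c • x = σ g c • (g • x))
    (hker : ∀ g : A, σ g = RingEquiv.refl K → g ∈ P.C) : P.C.index ≤ Nat.card K := by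
  obtain ⟨a, ha⟩ := IsCyclic.exists_monoid_generator (α := Kˣ)
  obtain ⟨v₀, hv₀⟩ := exists_ne (0 : V)
  rw [Subgroup.index_eq_card]
  refine Nat.card_le_card_of_injective (fun q : A ⧸ P.C => σ q.out (a : K)) fun q r h => ?_
  simp only at h
  rw [← QuotientGroup.out_eq' q, ← QuotientGroup.out_eq' r, QuotientGroup.eq]
  refine hker _ (RingEquiv.ext fun c => ?_)
  have hrq : ∀ c : K, σ r.out c = σ q.out c := fun c => by
    by_cases hc : c = 0
    · rw [hc, map_zero, map_zero]
    obtain ⟨n, hn⟩ := ha (Units.mk0 c hc)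
    have hn' : (a : K) ^ n = c := by
      rw [← Units.val_pow_eq_pow_val]
      exact congrArg Units.val hn
    rw [← hn', map_pow, map_pow, h]
  have hne : (q.out⁻¹ * r.out) • v₀ ≠ 0 := fun h0 => hv₀ ((smul_eq_zero_iff_eq _).1 h0)
  refine smul_left_injective K hne ?_
  show σ (q.out⁻¹ * r.out) c • ((q.out⁻¹ * r.out) • v₀) = c • ((q.out⁻¹ * r.out) • v₀)
  rw [← hσ, mul_smul, inv_smul_eq_iff, hσ, hσ q.out, hrq, mul_smul, smul_inv_smul]

/-- The centraliser of the scalars is bounded by the section. -/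
theorem index_Z_le (hsol : Group.IsSolvable A) :
    (P.Z.subgroupOf P.C).index ≤ Nat.card P.W ^ 4 := by
  classical
  letI := P.act
  obtain ⟨x, y, z, hxyz⟩ := BaseThree.hasBase3 (A := A) (V := Additive P.W) hsol P.isCR_act
  have hMC : P.M ≤ P.C := P.good.le_centralizer
  have h1 : (P.M.subgroupOf P.C).index ≤ Nat.card P.W ^ 3 := by
    rw [Subgroup.index_eq_card]
    refine (Nat.card_le_card_of_injective (fun q : ↥P.C ⧸ P.M.subgroupOf P.C =>
      ((q.out : A) • x, (q.out : A) • y, (q.out : A) • z)) fun q r h => ?_).trans (le_of_eq ?_)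
    · simp only [Prod.mk.injEq] at h
      obtain ⟨hx, hy, hz⟩ := h
      rw [← QuotientGroup.out_eq' q, ← QuotientGroup.out_eq' r, QuotientGroup.eq, Subgroup.mem_subgroupOf]
      have hfix := hxyz ((q.out : A)⁻¹ * (r.out : A)) (by rw [mul_smul, inv_smul_eq_iff, hx])
        (by rw [mul_smul, inv_smul_eq_iff, hy]) (by rw [mul_smul, inv_smul_eq_iff, hz])
      refine P.mem_M_of_conj_eq_one (q.out⁻¹ * r.out).2 (MulEquiv.ext fun w => ?_)
      rw [MulAut.one_apply]
      exact congrArg Additive.toMul (hfix (Additive.ofMul w))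
    · rw [Nat.card_prod, Nat.card_prod, Nat.card_congr (Additive.toMul (α := P.W))]
      ring
  have h2 := Subgroup.relIndex_mul_relIndex P.Z P.M P.C P.good.le hMC
  unfold Subgroup.relIndex at h2
  rw [← h2, pow_succ' (Nat.card P.W) 3]
  exact Nat.mul_le_mul (le_of_eq (Subgroup.index_eq_card _)) h1

theorem three_mul_pow_eight_lt : ∀ m : ℕ, 64 ≤ m → 3 * m ^ 8 < 3 ^ ((m + 1) / 2)
  | m, h => by
    induction m using Nat.strong_induction_on with
    | _ m ih =>
      by_cases h1 : m ≤ 65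
      · interval_cases m <;> norm_num
      have hm := ih (m - 2) (by omega) (by omega)
      have h2 : 32 * m ≤ 33 * (m - 2) := by omega
      have h3 : (32 * m) ^ 8 ≤ (33 * (m - 2)) ^ 8 := Nat.pow_le_pow_left h2 8
      rw [mul_pow, mul_pow] at h3
      rw [show (m + 1) / 2 = (m - 2 + 1) / 2 + 1 by omega, pow_succ (3 : ℕ)]
      have h4 : (33 : ℕ) ^ 8 ≤ 2 * 32 ^ 8 := by norm_num
      have h5 : 32 ^ 8 * m ^ 8 ≤ 32 ^ 8 * (2 * (m - 2) ^ 8) :=
        h3.trans ((Nat.mul_le_mul_right _ h4).trans_eq (by ring))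
      have h6 := Nat.le_of_mul_le_mul_left h5 (by norm_num)
      omega

theorem count_lt {q m X k : ℕ} (hq : 3 ≤ q) (hm : 64 ≤ m) (hX : X ≤ m ^ 8) (hk : k ≤ q) :
    (X - 1) * (2 * q ^ (3 * m / 2)) + (k - 1) * (X * (q - 1)) * (q ^ m - 1) < (q ^ m) ^ 2 - 1 := by
  have hpow : q ^ (m + 2) ≤ q ^ (3 * m / 2) := Nat.pow_le_pow_right (by omega) (by omega)
  have h1 : (k - 1) * (X * (q - 1)) * (q ^ m - 1) ≤ X * q ^ (3 * m / 2) := by
    calc (k - 1) * (X * (q - 1)) * (q ^ m - 1) ≤ q * (X * q) * q ^ m :=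
          Nat.mul_le_mul (Nat.mul_le_mul (by omega) (Nat.mul_le_mul_left _ (Nat.sub_le _ _))) (Nat.sub_le _ _)
      _ = X * q ^ (m + 2) := by ring
      _ ≤ _ := Nat.mul_le_mul_left _ hpow
  have h2 : (X - 1) * (2 * q ^ (3 * m / 2)) ≤ 2 * (X * q ^ (3 * m / 2)) := by
    calc (X - 1) * (2 * q ^ (3 * m / 2)) ≤ X * (2 * q ^ (3 * m / 2)) :=
          Nat.mul_le_mul_right _ (Nat.sub_le _ _)
      _ = _ := by ring
  have h3 : (3 * X + 1) * q ^ (3 * m / 2) ≤ (q ^ m) ^ 2 := by
    calc (3 * X + 1) * q ^ (3 * m / 2) ≤ q ^ ((m + 1) / 2) * q ^ (3 * m / 2) := by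
          refine Nat.mul_le_mul_right _ ?_
          have := three_mul_pow_eight_lt m hm
          have h4 : (3 : ℕ) ^ ((m + 1) / 2) ≤ q ^ ((m + 1) / 2) := Nat.pow_le_pow_left hq _
          omega
      _ = q ^ ((m + 1) / 2 + 3 * m / 2) := (pow_add _ _ _).symm
      _ = (q ^ m) ^ 2 := by rw [← pow_mul]; congr 1; omega
  have h5 : 2 ≤ q ^ (3 * m / 2) := le_trans (by omega : 2 ≤ q) (Nat.le_self_pow (by omega) q)
  rw [show (3 * X + 1) * q ^ (3 * m / 2) = 3 * (X * q ^ (3 * m / 2)) + q ^ (3 * m / 2) by ring] at h3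
  omega

/-- Two vectors with trivial stabiliser when the section has order at least `64²`. -/
theorem hasBase_primitive_large {A : Type u} [Group A] [Finite A] {K : Type w} [Field K] [Finite K]
    {V : Type v} [AddCommGroup V] [Module K V] [DistribMulAction A V] [FaithfulSMul A V] [Finite V]
    [Nontrivial V] (P : PrimData A K V) (σ : A → (K ≃+* K))
    (hσ : ∀ (g : A) (c : K) (x : V), g • c • x = σ g c • (g • x))
    (hker : ∀ g : A, σ g = RingEquiv.refl K → g ∈ P.C) (hsol : Group.IsSolvable A)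
    (hcop : (Nat.card A).Coprime (Nat.card V)) (hCZ : P.C ≠ P.Z)
    (he : 64 * 64 ≤ Nat.card P.W) : HasBase A V := by
  set m := Module.finrank K V with hmdef
  have hV : Nat.card V = Nat.card K ^ m := Module.natCard_eq_pow_finrank
  have hWm : Nat.card P.W ≤ m * m := P.card_W_le
  have hm : 64 ≤ m := by
    by_contra h
    have : m * m < 64 * 64 := Nat.mul_lt_mul'' (by omega) (by omega)
    omega
  obtain ⟨r, hr, hrW⟩ := Nat.exists_prime_and_dvd (P.one_lt_W hCZ).ne'
  have hq : 3 ≤ Nat.card K := by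
    have h1 := Finite.one_lt_card (α := K)
    have h2 := Nat.le_of_dvd (by omega) (P.dvd_W hr hrW)
    have := hr.two_le
    omega
  refine P.hasBase_of_bound (B := 2 * Nat.card K ^ (3 * m / 2)) rfl rfl
    (fun g hg hgZ => coset_bound_four P hV hg hgZ) ?_
  rw [hV]
  refine count_lt hq hm ((index_Z_le P hsol).trans ?_) (index_C_le P σ hσ hker)
  exact (Nat.pow_le_pow_left hWm 4).trans_eq (by ring)

end Cfsg.Agent.CoprimeBase
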