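import Cfsg.Agent.Lib.CoprimeBase.Primitive
import Cfsg.Agent.Lib.CoprimeBase.Imprimitive

/-!
# Coprime solvable groups acting completely reducibly have bases of size two

* `baseAll`: the statement on all modules; `hasBase`: for one module.
-/

set_option autoImplicit false
set_option linter.style.haveILetI false

namespace Cfsg.Agent.CoprimeBase

open OddBaseTwo SolvableTransitive

universe u v

theorem hasBase_irreducible {A : Type u} [Group A] [Finite A] {V : Type u} [AddCommGroup V]
    [Finite V] [Nontrivial V] [DistribMulAction A V] [FaithfulSMul A V]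
    (hB : BaseBelowC.{u} (Nat.card V)) (hsol : Group.IsSolvable A)
    (hcop : (Nat.card A).Coprime (Nat.card V)) (hirr : IsIrr A V) : HasBase A V := by
  rcases Nat.even_or_odd (Nat.card V) with he | ho
  · refine OddBaseTwo.hasBase hsol (Nat.not_even_iff_odd.1 fun hA => ?_) hirr.isCR
    have h := Nat.dvd_gcd (even_iff_two_dvd.1 hA) (even_iff_two_dvd.1 he)
    rw [hcop] at h
    omega
  by_cases hfield : ∀ Z : Subgroup A, Z.Normal → IsMulCommutative ↥Z → IsField ↥(spanRing V Z)
  · exact hasBase_primitive hsol hcop ho hfield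
  push Not at hfield
  obtain ⟨Z, hZn, hZ, hnot⟩ := hfield
  haveI := hZn
  obtain ⟨ι, _, _, W, hW, h2⟩ := (isField_or_decomp hirr Z hZ).resolve_left hnot
  exact hasBase_of_decomp hB hsol hcop hirr hW h2

theorem baseAll : BaseAllC.{u} := by
  intro n
  induction n using Nat.strong_induction_on with
  | _ n ih =>
  intro A _ _ V _ _ _ hlt hsol hcop hcr
  have hB : BaseBelowC.{u} (Nat.card V) := ih _ hlt
  rcases subsingleton_or_nontrivial V with hV | hV
  · exact ⟨0, 0, fun a _ _ z => Subsingleton.elim _ _⟩
  by_cases hirr : IsIrr A V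
  swap
  · unfold IsIrr at hirr
    push Not at hirr
    obtain ⟨U, hU, hU0, hUt⟩ := hirr
    obtain ⟨W, hW, h1, h2⟩ := hcr U hU
    have hWt : W ≠ ⊤ := fun h => hU0 (by rwa [h, inf_top_eq] at h1)
    exact hasBase_of_complement hU hW h1 h2
      (by
        letI := subAction U hU
        exact hB A U (card_lt_of_ne_top hUt) hsol
          (hcop.coprime_dvd_right (AddSubgroup.card_addSubgroup_dvd_card U)) (isCR_subAction hcr hU))
      (by
        letI := subAction W hW
        exact hB A W (card_lt_of_ne_top hWt) hsol
          (hcop.coprime_dvd_right (AddSubgroup.card_addSubgroup_dvd_card W)) (isCR_subAction hcr hW))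
  letI := rangeAction A V
  haveI := hsol
  obtain ⟨x, y, hxy⟩ := hasBase_irreducible (A := (MulAction.toPermHom A V).range) (V := V) hB
    (Group.isSolvable_of_surjective (MulAction.toPermHom A V).rangeRestrict_surjective)
    (hcop.coprime_dvd_left (Subgroup.card_range_dvd _))
    (fun U hU => hirr U fun a z hz => hU ((MulAction.toPermHom A V).rangeRestrict a) z hz)
  exact ⟨x, y, fun a ha hb => hxy ((MulAction.toPermHom A V).rangeRestrict a) ha hb⟩

/-- A coprime solvable group acting completely reducibly has a base of size two. -/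
theorem hasBase {A : Type u} [Group A] [Finite A] {V : Type v} [AddCommGroup V] [Finite V]
    [DistribMulAction A V] (hsol : Group.IsSolvable A) (hcop : (Nat.card A).Coprime (Nat.card V))
    (hcr : IsCR A V) : HasBase A V := by
  letI := rangeAction A V
  haveI := hsol
  have hinv : ∀ U : AddSubgroup V, IsInv (MulAction.toPermHom A V).range V U ↔ IsInv A V U :=
    fun U => ⟨fun h a => h ((MulAction.toPermHom A V).rangeRestrict a), fun h r => by
      obtain ⟨_, a, rfl⟩ := r
      exact h a⟩
  obtain ⟨x, y, hxy⟩ := baseAll.{v} (Nat.card V + 1) (MulAction.toPermHom A V).range V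
    (Nat.lt_succ_self _)
    (Group.isSolvable_of_surjective (MulAction.toPermHom A V).rangeRestrict_surjective)
    (hcop.coprime_dvd_left (Subgroup.card_range_dvd _)) (fun U hU => by
      obtain ⟨W, hW, h⟩ := hcr U ((hinv U).1 hU)
      exact ⟨W, (hinv W).2 hW, h⟩)
  exact ⟨x, y, fun a ha hb => hxy ((MulAction.toPermHom A V).rangeRestrict a) ha hb⟩

end Cfsg.Agent.CoprimeBase
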