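import Cfsg.Agent.Lib.CoprimeBase.Large
import Cfsg.Agent.Lib.CoprimeBase.Small.Lift
import Cfsg.Agent.Lib.CoprimeBase.Colour.Method
import Cfsg.Agent.Lib.OddBaseTwo.Main
import Cfsg.Agent.Lib.SolvableTransitive.Field

/-!
# Bases of size two: the primitive coprime case

* `hasBase_primitive`: coprime solvable groups of odd characteristic all whose abelian normal
  subgroups span fields.
-/

set_option autoImplicit false
set_option linter.style.haveILetI false

namespace Cfsg.Agent.CoprimeBase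

open OddBaseTwo SolvableTransitive

universe u v w

theorem ringEquiv_eq_refl_of_prime {K : Type w} [Field K] {p : ℕ} (e : ZMod p ≃+* K) (s : K ≃+* K) :
    s = RingEquiv.refl K := RingEquiv.ext fun x => by
  have h : ((e.trans s : ZMod p ≃+* K) : ZMod p →+* K) = (e : ZMod p →+* K) := RingHom.ext_zmod _ _
  have h1 : (e.trans s) (e.symm x) = e (e.symm x) := DFunLike.congr_fun h (e.symm x)
  rw [RingEquiv.trans_apply, e.apply_symm_apply] at h1
  exact h1

/-- The scalars transported along an isomorphism of fields. -/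
theorem hasBase_prime_field {A : Type u} [Group A] [Finite A] {K : Type w} [Field K] [Finite K]
    {V : Type v} [AddCommGroup V] [Module K V] [DistribMulAction A V] [FaithfulSMul A V] [Finite V]
    [Nontrivial V] (P : PrimData A K V) (hC : P.C = ⊤) {p : ℕ} [Fact p.Prime] (e : ZMod p ≃+* K)
    (hp : p = 3 ∨ p = 5) (hsol : Group.IsSolvable A) (hcop : (Nat.card A).Coprime (Nat.card V))
    (hCZ : P.C ≠ P.Z)
    (hmax : ∀ B : Subgroup A, B.Normal → (∀ x ∈ B, ∀ y ∈ B, x * y = y * x) → P.Z ≤ B → B = P.Z)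
    (hW : Nat.card P.W ≤ 4 ^ 5) : HasBase A V := by
  letI : Module (ZMod p) V := Module.compHom V (e : ZMod p →+* K)
  let P' : PrimData A (ZMod p) V :=
    { Z := P.Z
      M := P.M
      χ := (Units.map (e.symm : K →* ZMod p)).comp P.χ
      normalZ := P.normalZ
      scalar := fun a x => by
        show (a : A) • x = e (e.symm ((P.χ a : Kˣ) : K)) • x
        rw [e.apply_symm_apply]
        exact P.scalar a x
      linear := fun g hg c x => P.linear g hg (e c) x
      good := P.good
      cent := P.cent }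
  exact Small.hasBase_small P' hp hC hsol hcop hCZ hmax hW

theorem hasBase_primitive {A : Type u} [Group A] [Finite A] {V : Type v} [AddCommGroup V]
    [Finite V] [Nontrivial V] [DistribMulAction A V] [FaithfulSMul A V] (hsol : Group.IsSolvable A)
    (hcop : (Nat.card A).Coprime (Nat.card V)) (hodd : Odd (Nat.card V))
    (hfield : ∀ Z : Subgroup A, Z.Normal → IsMulCommutative ↥Z → IsField ↥(spanRing V Z)) :
    HasBase A V := by
  classical
  obtain ⟨Z, hZn, hZ, hmax⟩ := exists_maximal_abelian_normal (G := A)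
  haveI := hZn
  letI : Field ↥(spanRing V Z) := (hfield Z hZn hZ).toField
  haveI : Finite (AddMonoid.End V) :=
    Finite.of_injective (fun f => (f : V → V)) DFunLike.coe_injective
  obtain ⟨v₀, hv₀⟩ := exists_ne (0 : V)
  have hlin : ∀ g ∈ Subgroup.centralizer (Z : Set A), ∀ (c : ↥(spanRing V Z)) (x : V),
      g • c • x = c • g • x :=
    fun g hg c x => DFunLike.congr_fun (spanRing_commute hg c.2) x
  let χ : ↥Z →* (↥(spanRing V Z))ˣ :=
    MonoidHom.toHomUnits (((toEnd V).comp Z.subtype).codRestrict (spanRing V Z)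
      fun a => toEnd_mem_spanRing a.2)
  have hχ : ∀ (a : ↥Z) (x : V),
      (a : A) • x = ((χ a : (↥(spanRing V Z))ˣ) : ↥(spanRing V Z)) • x := fun a x => rfl
  obtain ⟨M, hM, hcent⟩ := exists_goodSection hsol hZ hmax
  let P : PrimData A ↥(spanRing V Z) V := ⟨Z, M, χ, hZn, hχ, hlin, hM, hcent⟩
  have hker : ∀ g : A, galois V Z g = RingEquiv.refl _ → g ∈ P.C := fun g h3 => by
    show g ∈ Subgroup.centralizer (Z : Set A)
    rw [← ker_galois (V := V) Z]
    exact h3
  have hσ : ∀ (g : A) (c : ↥(spanRing V Z)) (x : V), g • c • x = galois V Z g c • (g • x) :=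
    fun g c x => smul_apply_eq_galois Z g c x
  by_cases hCZ : P.C = P.Z
  · obtain ⟨a, ha⟩ := IsCyclic.exists_monoid_generator (α := (↥(spanRing V Z))ˣ)
    refine ⟨v₀, (a : ↥(spanRing V Z)) • v₀, fun g hg1 hg2 z => ?_⟩
    rw [hσ, hg1] at hg2
    have hgC := hker g (Colour.eq_refl_of_fix_gen (fun x => ha x) (smul_left_injective _ hv₀ hg2))
    rw [hCZ] at hgC
    by_cases hg : (⟨g, hgC⟩ : ↥P.Z) = 1
    · rw [show g = 1 from congrArg Subtype.val hg, one_smul]
    · exact absurd (P.fix_Z hg hg1) hv₀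
  by_cases hbig : 64 * 64 ≤ Nat.card P.W
  · exact hasBase_primitive_large P (fun g => galois V Z g) hσ hker hsol hcop hCZ hbig
  have hqodd : Odd (Nat.card ↥(spanRing V Z)) := by
    refine hodd.of_dvd_nat ?_
    rw [Module.natCard_eq_pow_finrank (K := ↥(spanRing V Z)) (V := V)]
    haveI : Module.Finite ↥(spanRing V Z) V := Module.Finite.of_finite
    exact dvd_pow_self _ Module.finrank_pos.ne'
  by_cases hq : 7 ≤ Nat.card ↥(spanRing V Z)
  · exact Colour.hasBase_primitive_colour P (fun g => galois V Z g) hσ hker hcop hqodd hq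
      (by omega)
  set q := Nat.card ↥(spanRing V Z) with hqdef
  have hq35 : q = 3 ∨ q = 5 := by
    obtain ⟨j, hj⟩ := hqodd
    have : 1 < q := Finite.one_lt_card
    omega
  haveI : Fact q.Prime := ⟨by rcases hq35 with h | h <;> rw [h] <;> norm_num⟩
  haveI := Fintype.ofFinite ↥(spanRing V Z)
  let e : ZMod q ≃+* ↥(spanRing V Z) :=
    ZMod.ringEquivOfPrime ↥(spanRing V Z) (Fact.out) (by rw [hqdef, Nat.card_eq_fintype_card])
  have hC : P.C = ⊤ := eq_top_iff.2 fun g _ => hker g (ringEquiv_eq_refl_of_prime e _)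
  refine hasBase_prime_field P hC e hq35 hsol hcop hCZ hmax ?_
  -- the size of the section
  obtain ⟨d, hd⟩ := P.isSquare_W
  have hall : ∀ r : ℕ, r.Prime → r ∣ d → r = 2 := by
    intro r hr hrd
    have h := P.dvd_W hr (hd ▸ dvd_mul_of_dvd_left hrd d)
    change r ∣ q - 1 at h
    rcases hq35 with h' | h' <;> rw [h'] at h
    · exact (Nat.prime_dvd_prime_iff_eq hr Nat.prime_two).1 h
    · exact (Nat.prime_dvd_prime_iff_eq hr Nat.prime_two).1 (hr.dvd_of_dvd_pow (show r ∣ 2 ^ 2 from h))
  have hd0 : d ≠ 0 := fun h => by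
    rw [h] at hd
    exact Nat.card_pos.ne' hd
  obtain ⟨k, hk⟩ : ∃ k, d = 2 ^ k :=
    ⟨_, Nat.eq_prime_pow_of_unique_prime_dvd hd0 (fun {r} hr hrd => hall r hr hrd)⟩
  have hlt : 2 ^ k < 2 ^ 6 := by
    rw [hd, hk] at hbig
    by_contra h
    exact hbig (Nat.mul_le_mul (Nat.not_lt.1 h) (Nat.not_lt.1 h))
  have hk5 : k ≤ 5 := Nat.lt_succ_iff.1 ((Nat.pow_lt_pow_iff_right one_lt_two).1 hlt)
  rw [hd, hk, ← mul_pow]
  exact Nat.pow_le_pow_right (by norm_num) hk5

end Cfsg.Agent.CoprimeBase
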