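import Cfsg.Agent.Lib.CoprimeBase.Basic
import Cfsg.Agent.Lib.Coprime.Sylow
import Cfsg.Agent.Lib.Coprime.Commutator
import Cfsg.Agent.Lib.Coprime.AbelianMaschke
import Cfsg.Agent.Lib.PGroup.Frattini
import Cfsg.Agent.Lib.Fusion.Marks
import Cfsg.Agent.Lib.OddOrder.PiCore
import Cfsg.Agent.Lib.PCore.Basic
import Mathlib.GroupTheory.SchurZassenhaus
import Mathlib.GroupTheory.SemidirectProduct

/-!
# Bases of size two for coprime actions: the reductions to modules

With `BaseAllC` as hypothesis:

* `exists_pair_internal`: for a solvable `A ≤ N(K)` of order prime to `|K|`, faithful on `K`, two elements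
  of `K` centralised by no nontrivial element of `A`;
* `exists_pair_group`: the same for an action by automorphisms;
* `exists_conj_pi_core`: in a `π`-solvable group three conjugates of a Hall `π`-subgroup meet in `O_π`;
* `exists_pair_linear`: the linear case.

`K` and the product of `A`-invariant Sylow subgroups have the same numbers of fixed points for all
subgroups of `A`, so the same pairs up to isomorphism of `A`-sets; a `p`-group is replaced by its
Frattini factor.
-/

set_option autoImplicit false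
set_option linter.style.haveILetI false
set_option linter.unusedSectionVars false

namespace Cfsg.Agent.CoprimeBase

open Subgroup OddBaseTwo
open scoped Pointwise

universe u v w

section Internal

variable {G : Type u} [Group G] [Finite G]

/-- One `p`-group. -/
theorem exists_pair_pgroup (hall : BaseAllC.{u}) {p : ℕ} [Fact p.Prime] {A P : Subgroup G}
    (hA : Group.IsSolvable A) (hAP : A ≤ normalizer (P : Set G)) (hP : IsPGroup p P)
    (hcop : (Nat.card A).Coprime p) :
    ∃ x ∈ P, ∃ y ∈ P, ∀ a ∈ A, a * x = x * a → a * y = y * a → ∀ k ∈ P, a * k = k * a := by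
  classical
  let Q := ↥P ⧸ frattini ↥P
  letI : CommGroup Q := { (inferInstance : Group Q) with
    mul_comm := fun a b => by
      induction a using QuotientGroup.induction_on with | H a =>
      induction b using QuotientGroup.induction_on with | H b =>
      show QuotientGroup.mk (s := frattini ↥P) (a * b) = QuotientGroup.mk (b * a)
      rw [QuotientGroup.eq_iff_div_mem, div_eq_mul_inv, mul_inv_rev, ← mul_assoc]
      exact PGroup.commutator_le_frattini hP
        (commutator_mem_commutator (mem_top a) (mem_top b)) }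
  let θ : MulAut ↥P →* MulAut Q := MonoidHom.mk'
    (fun e => QuotientGroup.congr (frattini ↥P) (frattini ↥P) e
      (characteristic_iff_map_eq.1 inferInstance e)) fun e f => by
    ext x
    induction x using QuotientGroup.induction_on with | H x => rfl
  let ψ : ↥A →* MulAut Q := θ.comp (P.normalizerMonoidHom.comp (inclusion hAP))
  have hψ : ∀ (a : ↥A) (k : ↥P), ψ a (QuotientGroup.mk k) = QuotientGroup.mk
      (⟨(a : G) * k * (a : G)⁻¹, (mem_normalizer_iff.1 (hAP a.2) k).1 k.2⟩ : ↥P) := fun a k => rfl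
  let A' := ψ.range
  letI : DistribMulAction A' (Additive Q) :=
    { smul := fun a v => Additive.ofMul ((a : MulAut Q) v.toMul)
      one_smul := fun v => rfl
      mul_smul := fun a b v => rfl
      smul_zero := fun a => by
        show Additive.ofMul ((a : MulAut Q) (1 : Q)) = _
        rw [map_one]
        rfl
      smul_add := fun a v w => by
        show Additive.ofMul ((a : MulAut Q) (v.toMul * w.toMul)) = _
        rw [map_mul]
        rfl }
  have hsmul : ∀ (a : A') (v : Additive Q), a • v = Additive.ofMul ((a : MulAut Q) v.toMul) :=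
    fun _ _ => rfl
  have hQ : IsPGroup p Q := hP.to_quotient (frattini ↥P)
  have hpow : ∀ t : Q, t ^ p = 1 := fun t => by
    induction t using QuotientGroup.induction_on with | H t =>
    rw [← QuotientGroup.mk_pow, QuotientGroup.eq_one_iff]
    exact PGroup.pow_mem_frattini hP t
  have hA'p : (Nat.card A').Coprime p := hcop.coprime_dvd_left (card_range_dvd ψ)
  have hcr : IsCR A' (Additive Q) := by
    intro U hU
    obtain ⟨D, -, hDi, hDU, hDT⟩ := Coprime.exists_invariant_compl_elementary (p := p) A' hA'p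
      (C := ⊥) (S := AddSubgroup.toSubgroup' U) (T := ⊤) bot_le le_top
      (fun t _ => mem_bot.2 (hpow t))
      (fun x _ a ha => by rw [mem_bot] at ha ⊢; rw [ha, map_one])
      (fun x hx a ha => hU ⟨x, hx⟩ (Additive.ofMul a) ha)
      (fun _ _ _ _ => mem_top _)
    refine ⟨Subgroup.toAddSubgroup D, fun a v hv => hDi a a.2 v.toMul hv, ?_, ?_⟩
    · refine eq_bot_iff.2 fun v hv => ?_
      have h : v.toMul ∈ D ⊓ AddSubgroup.toSubgroup' U := ⟨hv.2, hv.1⟩
      rw [hDU, mem_bot] at h
      exact AddSubgroup.mem_bot.2 (Additive.toMul.injective h)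
    · refine eq_top_iff.2 fun v _ => ?_
      obtain ⟨d, hd, s, hs, hds⟩ := Subgroup.mem_sup.1 (hDT.ge (mem_top v.toMul))
      refine AddSubgroup.mem_sup.2 ⟨Additive.ofMul s, hs, Additive.ofMul d, hd, ?_⟩
      apply Additive.toMul.injective
      show s * d = v.toMul
      rw [mul_comm, hds]
  haveI : Group.IsSolvable A := hA
  have hsol : Group.IsSolvable A' := Group.isSolvable_of_surjective ψ.rangeRestrict_surjective
  have hcopQ : (Nat.card A').Coprime (Nat.card (Additive Q)) := by
    obtain ⟨n, hn⟩ := IsPGroup.iff_card.1 hQ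
    rw [show Nat.card (Additive Q) = Nat.card Q from rfl, hn]
    exact hA'p.pow_right n
  obtain ⟨x₀, y₀, hb⟩ := hall _ A' (Additive Q) (Nat.lt_succ_self _) hsol hcopQ hcr
  obtain ⟨x, hx⟩ := QuotientGroup.mk_surjective (s := frattini ↥P) x₀.toMul
  obtain ⟨y, hy⟩ := QuotientGroup.mk_surjective (s := frattini ↥P) y₀.toMul
  refine ⟨x, x.2, y, y.2, fun a ha hax hay => ?_⟩
  have hfix : ∀ z : ↥P, a * z = z * a → ψ ⟨a, ha⟩ (QuotientGroup.mk z) = QuotientGroup.mk z := by
    intro z hz
    rw [hψ]
    congr 1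
    exact Subtype.ext (by simp only; rw [hz, mul_inv_cancel_right])
  have htriv : ψ ⟨a, ha⟩ = 1 := by
    ext z
    refine congrArg Additive.toMul (hb ⟨ψ ⟨a, ha⟩, _, rfl⟩ ?_ ?_ (Additive.ofMul z))
    · rw [hsmul, ← hx]
      show Additive.ofMul (ψ ⟨a, ha⟩ (QuotientGroup.mk x)) = _
      rw [hfix x hax, hx]
      rfl
    · rw [hsmul, ← hy]
      show Additive.ofMul (ψ ⟨a, ha⟩ (QuotientGroup.mk y)) = _
      rw [hfix y hay, hy]
      rfl
  have hle : zpowers a ≤ centralizer (P : Set G) := by
    refine Coprime.le_centralizer_of_frattini ((zpowers_le.2 ha).trans hAP) ?_ fun b hb' k hk => ?_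
    · obtain ⟨n, hn⟩ := IsPGroup.iff_card.1 (hP.to_subgroup (frattini ↥P))
      rw [hn]
      exact (hcop.coprime_dvd_left (card_dvd_of_le (zpowers_le.2 ha))).pow_right n
    · obtain ⟨i, rfl⟩ := mem_zpowers_iff.1 hb'
      have h1 : ψ (⟨a, ha⟩ ^ i) = 1 := by rw [map_zpow, htriv, one_zpow]
      have h3 := DFunLike.congr_fun h1 (QuotientGroup.mk ⟨k, hk⟩)
      rw [hψ, MulAut.one_apply, QuotientGroup.eq_iff_div_mem, div_eq_mul_inv] at h3
      exact ⟨_, h3, rfl⟩
  intro k hk
  exact ((mem_centralizer_iff.1 (hle (mem_zpowers a))) k hk).symm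

/-- The fixed points in an invariant Sylow subgroup form a Sylow subgroup of the fixed points. -/
theorem card_inf_centralizer {A K : Subgroup G} (hAK : A ≤ normalizer (K : Set G))
    (hcop : (Nat.card A).Coprime (Nat.card K)) (hA : Group.IsSolvable A) {p : ℕ} [Fact p.Prime]
    (P : Sylow p K) (hP : A ≤ normalizer (((P : Subgroup K).map K.subtype : Subgroup G) : Set G))
    {B : Subgroup G} (hB : B ≤ A) :
    Nat.card ↥((P : Subgroup K).map K.subtype ⊓ centralizer (B : Set G)) =
      p ^ (Nat.card ↥(K ⊓ centralizer (B : Set G))).factorization p := by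
  set C := K ⊓ centralizer (B : Set G) with hC
  set P' := (P : Subgroup K).map K.subtype with hP'
  have hBA : (Nat.card B).Coprime (Nat.card K) := hcop.coprime_dvd_left (card_dvd_of_le hB)
  have hsB : Group.IsSolvable B := Coprime.isSolvable_of_le hB hA
  let R : Sylow p C := default
  set R' := (R : Subgroup C).map C.subtype with hR'
  have hRC : R' ≤ C := map_subtype_le _
  have hBR : B ≤ normalizer (R' : Set G) :=
    (le_centralizer_iff.1 (hRC.trans inf_le_right)).trans (centralizer_le_normalizer _)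
  obtain ⟨Q, hRQ, hBQ⟩ := Coprime.exists_invariant_sylow_ge (hB.trans hAK) hBA (Or.inl hsB)
    (hRC.trans inf_le_left) (R.2.map _) hBR
  obtain ⟨c, hc, hcP⟩ := Coprime.exists_centralizer_smul_sylow (hB.trans hAK) hBA (Or.inl hsB) P Q
    (hB.trans hP) hBQ
  have hQ' : (Q : Subgroup K).map K.subtype = MulAut.conj (c : G) • P' := by
    rw [← hcP, Sylow.coe_subgroup_smul, Coprime.map_conj_smul, K.coe_subtype]
  have hcard : Nat.card R' = p ^ (Nat.card C).factorization p := by
    rw [hR', card_map_of_injective C.subtype_injective, R.card_eq_multiplicity]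
  have hle : MulAut.conj (c : G)⁻¹ • R' ≤ P' ⊓ centralizer (B : Set G) := by
    intro z hz
    rw [Coprime.mem_conj_smul_iff, inv_inv] at hz
    refine ⟨?_, ?_⟩
    · have h := hRQ hz
      rw [hQ', Coprime.mem_conj_smul_iff] at h
      simpa [mul_assoc] using h
    · have h := mul_mem (mul_mem (inv_mem hc) (hRC hz).2) hc
      simpa [mul_assoc] using h
  have h1 : p ^ (Nat.card C).factorization p ∣ Nat.card ↥(P' ⊓ centralizer (B : Set G)) := by
    rw [← hcard, ← Coprime.card_conj_smul ((c : G)⁻¹) R']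
    exact card_dvd_of_le hle
  refine (Nat.dvd_antisymm h1 ?_).symm
  obtain ⟨n, hn⟩ := IsPGroup.iff_card.1 ((P.2.map K.subtype).to_le
    (inf_le_left : P' ⊓ centralizer (B : Set G) ≤ P'))
  have h2 : p ^ n ∣ Nat.card C :=
    hn ▸ card_dvd_of_le (le_inf (inf_le_left.trans (map_subtype_le _)) inf_le_right)
  rw [hn]
  exact Nat.pow_dvd_pow p
    (((Fact.out : p.Prime).pow_dvd_iff_le_factorization Nat.card_pos.ne').1 h2)

/-- Conjugation on an invariant subgroup. -/
@[reducible] def conjOn {A P : Subgroup G} (h : A ≤ normalizer (P : Set G)) : MulAction A P where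
  smul a k := ⟨(a : G) * k * (a : G)⁻¹, (mem_normalizer_iff.1 (h a.2) k).1 k.2⟩
  one_smul k := Subtype.ext (by show (1 : G) * k * (1 : G)⁻¹ = k; group)
  mul_smul a b k := Subtype.ext (by
    show ((a : G) * b) * k * ((a : G) * b)⁻¹ = a * ((b : G) * k * (b : G)⁻¹) * (a : G)⁻¹
    group)

theorem card_fixed_conjOn {A P : Subgroup G} (h : A ≤ normalizer (P : Set G)) (H : Subgroup A) :
    letI := conjOn h
    Nat.card (MulAction.fixedPoints H P) =
      Nat.card ↥(P ⊓ centralizer ((H.map A.subtype : Subgroup G) : Set G)) := by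
  letI := conjOn h
  refine Nat.card_congr
    { toFun := fun k => ⟨(k.1 : G), k.1.2, ?_⟩
      invFun := fun k => ⟨⟨(k : G), k.2.1⟩, fun b => Subtype.ext ?_⟩
      left_inv := fun _ => rfl
      right_inv := fun _ => rfl }
  · rintro _ ⟨b, hb, rfl⟩
    exact mul_inv_eq_iff_eq_mul.1 (congrArg Subtype.val (k.2 ⟨b, hb⟩))
  · exact mul_inv_eq_iff_eq_mul.2
      (mem_centralizer_iff.1 k.2.2 _ (mem_map_of_mem A.subtype b.2))

theorem card_fixed_pair {M X : Type*} [Monoid M] [MulAction M X] :
    Nat.card (MulAction.fixedPoints M (X × X)) =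
      Nat.card (MulAction.fixedPoints M X) * Nat.card (MulAction.fixedPoints M X) := by
  rw [← Nat.card_prod]
  exact Nat.card_congr
    { toFun := fun z => (⟨z.1.1, fun m => congrArg Prod.fst (z.2 m)⟩,
        ⟨z.1.2, fun m => congrArg Prod.snd (z.2 m)⟩)
      invFun := fun z => ⟨(z.1.1, z.2.1), fun m => Prod.ext (z.1.2 m) (z.2.2 m)⟩
      left_inv := fun _ => rfl
      right_inv := fun _ => rfl }

theorem card_fixed_pi {M ι : Type*} [Monoid M] [Fintype ι] {X : ι → Type*} [∀ i, MulAction M (X i)] :
    Nat.card (MulAction.fixedPoints M (∀ i, X i)) = ∏ i, Nat.card (MulAction.fixedPoints M (X i)) := by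
  rw [← Nat.card_pi]
  exact Nat.card_congr
    { toFun := fun z i => ⟨z.1 i, fun m => congrFun (z.2 m) i⟩
      invFun := fun z => ⟨fun i => (z i).1, fun m => funext fun i => (z i).2 m⟩
      left_inv := fun _ => rfl
      right_inv := fun _ => rfl }

/-- A solvable group of automorphisms of coprime order has a base of size two. -/
theorem exists_pair_internal (hall : BaseAllC.{u}) {A K : Subgroup G}
    (hAK : A ≤ normalizer (K : Set G)) (hcop : (Nat.card A).Coprime (Nat.card K))
    (hA : Group.IsSolvable A) (hfaith : ∀ a ∈ A, (∀ k ∈ K, a * k = k * a) → a = 1) :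
    ∃ x ∈ K, ∃ y ∈ K, ∀ a ∈ A, a * x = x * a → a * y = y * a → a = 1 := by
  classical
  have hex : ∀ p : {p : ℕ // p ∈ (Nat.card K).primeFactors}, ∃ P : Subgroup G,
      A ≤ normalizer (P : Set G) ∧
      (∀ B ≤ A, Nat.card ↥(P ⊓ centralizer (B : Set G)) =
        (p : ℕ) ^ (Nat.card ↥(K ⊓ centralizer (B : Set G))).factorization p) ∧
      ∃ x ∈ P, ∃ y ∈ P, ∀ a ∈ A, a * x = x * a → a * y = y * a → ∀ k ∈ P, a * k = k * a := by
    rintro ⟨p, hp⟩
    haveI : Fact p.Prime := ⟨Nat.prime_of_mem_primeFactors hp⟩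
    obtain ⟨P, hP⟩ := Coprime.exists_invariant_sylow hAK hcop (Or.inl hA) p
    exact ⟨_, hP, fun B hB => card_inf_centralizer hAK hcop hA P hP hB,
      exists_pair_pgroup hall hA hP (P.2.map _)
        (hcop.coprime_dvd_right (Nat.dvd_of_mem_primeFactors hp))⟩
  choose P hPn hPc x hx y hy hxy using hex
  have hC : ∀ B ≤ A, ∏ p, Nat.card ↥(P p ⊓ centralizer (B : Set G)) =
      Nat.card ↥(K ⊓ centralizer (B : Set G)) := by
    intro B hB
    rw [Finset.prod_congr rfl fun p _ => hPc p B hB]
    set m := Nat.card ↥(K ⊓ centralizer (B : Set G))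
    have hm : m ≠ 0 := Nat.card_pos.ne'
    conv_rhs => rw [← Nat.prod_factorization_pow_eq_self hm]
    rw [Finsupp.prod_of_support_subset (s := (Nat.card K).primeFactors) _ ?_ _ (fun _ _ => pow_zero _)]
    · exact Finset.prod_coe_sort (Nat.card K).primeFactors (fun p => p ^ m.factorization p)
    · rw [Nat.support_factorization]
      exact Nat.primeFactors_mono (card_dvd_of_le inf_le_left) Nat.card_pos.ne'
  letI : MulAction A K := conjOn hAK
  letI : ∀ p, MulAction A (P p) := fun p => conjOn (hPn p)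
  have hmarks : ∀ H : Subgroup A, Nat.card (MulAction.fixedPoints H (↥K × ↥K)) =
      Nat.card (MulAction.fixedPoints H ((∀ p, ↥(P p)) × (∀ p, ↥(P p)))) := by
    intro H
    rw [card_fixed_pair, card_fixed_pair, card_fixed_pi]
    rw [Finset.prod_congr rfl fun p _ => card_fixed_conjOn (hPn p) H, hC _ (map_subtype_le H),
      card_fixed_conjOn hAK H]
  obtain ⟨e, he⟩ := Fusion.Marks.exists_equiv_of_card_fixedPoints hmarks
  obtain ⟨z, hz⟩ := e.surjective (fun p => ⟨x p, hx p⟩, fun p => ⟨y p, hy p⟩)
  refine ⟨z.1, z.1.2, z.2, z.2.2, fun a ha h1 h2 => hfaith a ha fun k hk => ?_⟩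
  have hfix : (⟨a, ha⟩ : A) • z = z :=
    Prod.ext (Subtype.ext (mul_inv_eq_iff_eq_mul.2 h1)) (Subtype.ext (mul_inv_eq_iff_eq_mul.2 h2))
  have hfix' := he ⟨a, ha⟩ z
  rw [hfix, hz] at hfix'
  have hP : ∀ p, P p ≤ centralizer (zpowers a : Set G) := by
    intro p
    refine le_centralizer_iff.1 (zpowers_le.2 (mem_centralizer_iff.2 fun k hk => ?_))
    refine (hxy p a ha ?_ ?_ k hk).symm
    · exact mul_inv_eq_iff_eq_mul.1 (congrArg Subtype.val (congrFun (congrArg Prod.fst hfix') p).symm)
    · exact mul_inv_eq_iff_eq_mul.1 (congrArg Subtype.val (congrFun (congrArg Prod.snd hfix') p).symm)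
  have hbot : centralizer ((⊥ : Subgroup G) : Set G) = ⊤ := by
    refine eq_top_iff.2 fun g _ => mem_centralizer_iff.2 fun b hb => ?_
    rw [mem_bot.1 hb, one_mul, mul_one]
  have h3 := hC (zpowers a) (zpowers_le.2 ha)
  have h4 := hC ⊥ bot_le
  simp only [hbot, inf_top_eq] at h4
  rw [Finset.prod_congr rfl fun p _ => by rw [inf_eq_left.2 (hP p)], h4] at h3
  have h5 := eq_of_le_of_card_ge (inf_le_left : K ⊓ centralizer (zpowers a : Set G) ≤ K) h3.le
  exact mem_centralizer_iff.1 (h5.ge hk).2 a (mem_zpowers a)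

end Internal

/-- Coprime action by automorphisms. -/
theorem exists_pair_group {A : Type u} {K : Type v} [Group A] [Finite A] [Group K] [Finite K]
    [MulDistribMulAction A K] [FaithfulSMul A K] (hall : BaseAllC.{max u v})
    (hA : Group.IsSolvable A) (hcop : (Nat.card A).Coprime (Nat.card K)) :
    ∃ x y : K, ∀ a : A, a • x = x → a • y = y → a = 1 := by
  let φ : A →* MulAut K := MulDistribMulAction.toMulAut A K
  haveI : Finite (K ⋊[φ] A) := Finite.of_equiv _ SemidirectProduct.equivProd.symm
  set A' := (SemidirectProduct.inr : A →* K ⋊[φ] A).range with hA'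
  set K' := (SemidirectProduct.inl : K →* K ⋊[φ] A).range with hK'
  have hkey : ∀ (a : A) (k : K), (SemidirectProduct.inr a : K ⋊[φ] A) * SemidirectProduct.inl k =
      SemidirectProduct.inl (a • k) * SemidirectProduct.inr a := fun a k => by
    rw [show a • k = φ a k from rfl, SemidirectProduct.inl_aut, map_inv, inv_mul_cancel_right]
  have hcomm : ∀ (a : A) (k : K), (SemidirectProduct.inr a : K ⋊[φ] A) * SemidirectProduct.inl k =
      SemidirectProduct.inl k * SemidirectProduct.inr a ↔ a • k = k := fun a k => by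
    rw [hkey, mul_left_inj, SemidirectProduct.inl_inj]
  haveI := hA
  obtain ⟨_, ⟨x, rfl⟩, _, ⟨y, rfl⟩, h⟩ := exists_pair_internal hall (A := A') (K := K')
    (by
      haveI : K'.Normal := by
        rw [hK', SemidirectProduct.range_inl_eq_ker_rightHom]
        infer_instance
      rw [normalizer_eq_top]
      exact le_top)
    (by
      rw [hA', hK', Nat.card_congr (MonoidHom.ofInjective SemidirectProduct.inr_injective).toEquiv.symm,
        Nat.card_congr (MonoidHom.ofInjective SemidirectProduct.inl_injective).toEquiv.symm]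
      exact hcop)
    (Group.isSolvable_of_surjective (MonoidHom.rangeRestrict_surjective _))
    (by
      rintro _ ⟨a, rfl⟩ hk
      have : a = 1 := FaithfulSMul.eq_of_smul_eq_smul (α := K) fun k => by
        rw [one_smul]
        exact (hcomm a k).1 (hk _ ⟨k, rfl⟩)
      rw [this, map_one])
  exact ⟨x, y, fun a hax hay => SemidirectProduct.inr_injective
    ((h _ ⟨a, rfl⟩ ((hcomm a x).2 hax) ((hcomm a y).2 hay)).trans (map_one _).symm)⟩

/-- The linear case. -/
theorem exists_pair_linear {F : Type u} [Field F] {V : Type v} [AddCommGroup V] [Module F V] [Finite V]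
    {G : Type w} [Group G] [Finite G] (hall : BaseAllC.{max w v}) (hG : Group.IsSolvable G)
    (ρ : Representation F G V) (hfaith : Function.Injective ρ)
    (hcop : (Nat.card G).Coprime (Nat.card V)) :
    ∃ x y : V, ∀ g : G, ρ g x = x → ρ g y = y → g = 1 := by
  letI : MulDistribMulAction G (Multiplicative V) :=
    { smul := fun g v => Multiplicative.ofAdd (ρ g v.toAdd)
      one_smul := fun v => by
        show Multiplicative.ofAdd (ρ 1 v.toAdd) = v
        rw [map_one]
        rfl
      mul_smul := fun g h v => by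
        show Multiplicative.ofAdd (ρ (g * h) v.toAdd) = _
        rw [map_mul]
        rfl
      smul_mul := fun g v w => by
        show Multiplicative.ofAdd (ρ g (v.toAdd + w.toAdd)) = _
        rw [map_add]
        rfl
      smul_one := fun g => by
        show Multiplicative.ofAdd (ρ g 0) = _
        rw [map_zero]
        rfl }
  haveI : FaithfulSMul G (Multiplicative V) := ⟨fun {g h} e => hfaith (LinearMap.ext fun v =>
    Multiplicative.ofAdd.injective (e (Multiplicative.ofAdd v)))⟩
  obtain ⟨x, y, h⟩ := exists_pair_group (A := G) (K := Multiplicative V) hall hG hcop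
  exact ⟨x.toAdd, y.toAdd, fun g hx hy => h g (congrArg Multiplicative.ofAdd hx)
    (congrArg Multiplicative.ofAdd hy)⟩

/-! ### `π`-solvable groups -/

section PiSolvable

variable {G : Type u} [Group G] [Finite G] (π : Set ℕ)

/-- A normal series whose factors are `p`-groups with `p ∈ π` or `π'`-groups. -/
def HasPiSeries (G : Type u) [Group G] (π : Set ℕ) : Prop :=
  ∃ (n : ℕ) (N : Fin (n + 1) → Subgroup G), N 0 = ⊥ ∧ N (Fin.last n) = ⊤ ∧ Monotone N ∧ (∀ i, (N i).Normal) ∧
    ∀ i : Fin n, (∃ p ∈ π, p.Prime ∧ ∃ k : ℕ, (N i.castSucc).relIndex (N i.succ) = p ^ k) ∨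
      (∀ q : ℕ, q.Prime → q ∣ (N i.castSucc).relIndex (N i.succ) → q ∉ π)

theorem relIndex_dvd_relIndex_of_normal {N L M : Subgroup G} [N.Normal] (h : L ≤ M) :
    N.relIndex L ∣ N.relIndex M := by
  have h1 := relIndex_dvd_index_of_normal (N.subgroupOf M) (L.subgroupOf M)
  rwa [relIndex_subgroupOf h] at h1

variable {π}

theorem hasPiSeries_quotient (h : HasPiSeries G π) (O : Subgroup G) [O.Normal] :
    HasPiSeries (G ⧸ O) π := by
  obtain ⟨n, N, h0, hn, hmono, hnor, hstep⟩ := h
  refine ⟨n, fun i => (N i).map (QuotientGroup.mk' O), ?_, ?_, fun i j hij => map_mono (hmono hij),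
    fun i => (hnor i).map _ (QuotientGroup.mk'_surjective O), fun i => ?_⟩
  · show (N 0).map _ = ⊥
    rw [h0, Subgroup.map_bot]
  · show (N (Fin.last n)).map _ = ⊤
    rw [hn, map_top_of_surjective _ (QuotientGroup.mk'_surjective O)]
  have hle := hmono i.castSucc_lt_succ.le
  haveI := hnor i.castSucc
  have hd : ((N i.castSucc).map (QuotientGroup.mk' O)).relIndex ((N i.succ).map (QuotientGroup.mk' O)) ∣
      (N i.castSucc).relIndex (N i.succ) := by
    rw [relIndex_map_map, QuotientGroup.ker_mk']
    rw [show N i.succ ⊔ O = N i.succ ⊔ (N i.castSucc ⊔ O) by rw [← sup_assoc, sup_eq_left.2 hle],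
      relIndex_sup_right]
    exact relIndex_dvd_of_le_left _ le_sup_left
  rcases hstep i with ⟨p, hp, hpp, k, hk⟩ | hq
  · rw [hk] at hd
    obtain ⟨j, -, hj⟩ := (Nat.dvd_prime_pow hpp).1 hd
    exact Or.inl ⟨p, hp, hpp, j, hj⟩
  · exact Or.inr fun q h1 h2 => hq q h1 (h2.trans hd)

theorem isSolvable_of_isPiGrp (h : HasPiSeries G π) {H : Subgroup G} (hH : OddOrder.IsPiGrp π H) :
    Group.IsSolvable H := by
  obtain ⟨n, N, h0, hn, hmono, hnor, hstep⟩ := h
  have key : ∀ i, Group.IsSolvable ↥(N i ⊓ H) := by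
    intro i
    induction i using Fin.induction with
    | zero =>
      rw [h0, bot_inf_eq]
      exact Group.isSolvable_of_comm fun a b => Subsingleton.elim _ _
    | succ i ih =>
      set L := N i.succ ⊓ H with hL
      haveI := hnor i.castSucc
      set J := (N i.castSucc).subgroupOf L with hJ
      haveI : J.Normal := inferInstanceAs ((N i.castSucc).comap L.subtype).Normal
      have hJs : Group.IsSolvable J := by
        haveI := ih
        refine Group.isSolvable_of_isSolvable_injective (G' := ↥(N i.castSucc ⊓ H))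
          (f := (L.subtype.comp J.subtype).codRestrict (N i.castSucc ⊓ H) fun z => ⟨z.2, z.1.2.2⟩) ?_
        intro a b e
        exact Subtype.ext (Subtype.ext (congrArg Subtype.val e :))
      have hd : Nat.card (↥L ⧸ J) ∣ (N i.castSucc).relIndex (N i.succ) :=
        relIndex_dvd_relIndex_of_normal inf_le_left
      have hdH : Nat.card (↥L ⧸ J) ∣ Nat.card H :=
        (relIndex_dvd_card (N i.castSucc) L).trans (card_dvd_of_le inf_le_right)
      have hQs : Group.IsSolvable (↥L ⧸ J) := by
        rcases hstep i with ⟨p, hp, hpp, k, hk⟩ | hq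
        · haveI : Fact p.Prime := ⟨hpp⟩
          rw [hk] at hd
          obtain ⟨j, -, hj⟩ := (Nat.dvd_prime_pow hpp).1 hd
          haveI := (IsPGroup.of_card hj).isNilpotent
          infer_instance
        · have h1 : Nat.card (↥L ⧸ J) = 1 := by
            by_contra hne
            obtain ⟨r, hr, hrd⟩ := Nat.exists_prime_and_dvd hne
            exact hq r hr (hrd.trans hd) (hH r hr (hrd.trans hdH))
          haveI : Subsingleton (↥L ⧸ J) := (Nat.card_eq_one_iff_unique.1 h1).1
          exact Group.isSolvable_of_comm fun a b => Subsingleton.elim _ _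
      exact (Group.isSolvable_iff_subgroup_quotient J).2 ⟨hJs, hQs⟩
  have := key (Fin.last n)
  rwa [hn, top_inf_eq] at this

/-- In a `π`-solvable group without normal `π`-subgroup the `π'`-core contains its centraliser. -/
theorem centralizer_piCore_le (h : HasPiSeries G π) (h0π : Cfsg.piCore π G = ⊥) :
    centralizer ((Cfsg.piCore πᶜ G : Subgroup G) : Set G) ≤ Cfsg.piCore πᶜ G := by
  obtain ⟨n, N, h0, hn, hmono, hnor, hstep⟩ := h
  set K := Cfsg.piCore πᶜ G with hK
  haveI : K.Normal := Cfsg.piCore_normal _ _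
  have hKπ : OddOrder.IsPiGrp πᶜ K := OddOrder.isPiGrp_piCore _ _
  set C := centralizer (K : Set G) with hC
  have key : ∀ i, N i ⊓ C ≤ K := by
    intro i
    induction i using Fin.induction with
    | zero => rw [h0, bot_inf_eq]; exact bot_le
    | succ i ih =>
      set L := N i.succ ⊓ C with hL
      haveI := hnor i.castSucc
      haveI := hnor i.succ
      haveI : L.Normal := inferInstance
      have hd : K.relIndex L ∣ (N i.castSucc).relIndex (N i.succ) := by
        refine dvd_trans ?_ (relIndex_dvd_relIndex_of_normal (inf_le_left : L ≤ N i.succ))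
        rw [← inf_relIndex_right (N i.castSucc)]
        exact relIndex_dvd_of_le_left _ ((inf_le_inf_left _ inf_le_right).trans ih)
      have hcard : Nat.card L = Nat.card ↥(K ⊓ L) * K.relIndex L := by
        rw [← inf_relIndex_right, ← relIndex_bot_left (K ⊓ L), ← relIndex_bot_left L,
          relIndex_mul_relIndex _ _ _ bot_le inf_le_right]
      rcases hstep i with ⟨p, hp, hpp, k, hk⟩ | hq
      · rw [hk] at hd
        obtain ⟨j, -, hj⟩ := (Nat.dvd_prime_pow hpp).1 hd
        haveI : Fact p.Prime := ⟨hpp⟩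
        set M := K.subgroupOf L with hM
        haveI : M.Normal := inferInstanceAs (K.comap L.subtype).Normal
        have hMi : M.index = p ^ j := hj
        have hMK : Nat.card M ∣ Nat.card K := by
          rw [Nat.card_congr (M.equivMapOfInjective L.subtype L.subtype_injective).toEquiv]
          exact card_dvd_of_le (by rintro _ ⟨z, hz, rfl⟩; exact hz)
        have hpM : (Nat.card M).Coprime p := Nat.Coprime.symm <| hpp.coprime_iff_not_dvd.2 fun hd' =>
          hKπ p hpp (hd'.trans hMK) hp
        obtain ⟨P, hP⟩ := exists_right_complement'_of_coprime (N := M) (hMi ▸ hpM.pow_right j)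
        have hPc : Nat.card P = p ^ j := by
          have := hP.card_mul_card
          rw [← M.card_mul_index, hMi] at this
          exact Nat.eq_of_mul_eq_mul_left Nat.card_pos this
        have hmul : ∀ l : L, ∃ m ∈ M, ∃ q ∈ P, m * q = l := fun l => by
          obtain ⟨⟨m, q⟩, hmq⟩ := hP.2 l
          exact ⟨m, m.2, q, q.2, hmq⟩
        haveI hPn : P.Normal := by
          refine ⟨fun q hq l => ?_⟩
          obtain ⟨m, hm, r, hr, rfl⟩ := hmul l
          have hmr : m * (r * q * r⁻¹) = (r * q * r⁻¹) * m :=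
            Subtype.ext (mem_centralizer_iff.1 (r * q * r⁻¹).2.2 (m : G) hm)
          rw [show m * r * q * (m * r)⁻¹ = m * (r * q * r⁻¹) * m⁻¹ by group, hmr, mul_inv_cancel_right]
          exact mul_mem (mul_mem hr hq) (inv_mem hr)
        have hPi : P.index = Nat.card M := by
          have h1 := P.card_mul_index
          rw [← hP.card_mul_card, mul_comm (Nat.card M)] at h1
          exact Nat.eq_of_mul_eq_mul_left Nat.card_pos h1
        have hmem : ∀ l : L, l ^ p ^ j = 1 → l ∈ P := fun l hl => by
          rw [← QuotientGroup.eq_one_iff, ← orderOf_eq_one_iff]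
          refine Nat.eq_one_of_dvd_coprimes (hpM.pow_right j) ?_ ?_
          · rw [← hPi]
            exact orderOf_dvd_natCard _
          · refine orderOf_dvd_of_pow_eq_one ?_
            rw [← QuotientGroup.mk_pow, hl, QuotientGroup.mk_one]
        haveI : (P.map L.subtype).Normal := by
          refine ⟨?_⟩
          rintro _ ⟨q, hq, rfl⟩ g
          refine ⟨⟨g * q * g⁻¹, ‹L.Normal›.conj_mem _ q.2 g⟩, hmem _ ?_, rfl⟩
          apply Subtype.ext
          have hq1 : (⟨q, hq⟩ : P) ^ p ^ j = 1 := hPc ▸ pow_card_eq_one'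
          have hq2 : (q : G) ^ p ^ j = 1 := congrArg (fun z : P => ((z : L) : G)) hq1
          show (g * q * g⁻¹) ^ p ^ j = 1
          rw [conj_pow, hq2, mul_one, mul_inv_cancel]
        have hb : P.map L.subtype ≤ ⊥ := h0π ▸ le_sSup ⟨inferInstance, fun r hr hrd => by
          rw [card_map_of_injective L.subtype_injective, hPc] at hrd
          rwa [(Nat.prime_dvd_prime_iff_eq hr hpp).1 (hr.dvd_of_dvd_pow hrd)]⟩
        intro g hg
        obtain ⟨m, hm, q, hq, hmq⟩ := hmul ⟨g, hg⟩
        have h1 : (q : G) = 1 := mem_bot.1 (hb (mem_map_of_mem L.subtype hq))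
        have h3 : (m : G) * q = g := congrArg Subtype.val hmq
        rw [h1, mul_one] at h3
        exact h3 ▸ hm
      · refine le_sSup ⟨inferInstance, fun r hr hrd => ?_⟩
        rw [hcard] at hrd
        rcases hr.dvd_mul.1 hrd with h1 | h1
        · exact hKπ r hr (h1.trans (card_dvd_of_le inf_le_left))
        · exact hq r hr (h1.trans hd)
  have h1 := key (Fin.last n)
  rwa [hn, top_inf_eq] at h1

/-- Three conjugates of a Hall `π`-subgroup meet in `O_π`. -/
theorem exists_conj_pi_core (hall : BaseAllC.{u}) (hser : HasPiSeries G π) {H : Subgroup G}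
    (hH : Cfsg.IsPiHall π H) :
    ∃ x y : G, H ⊓ (H.map (MulAut.conj x).toMonoidHom) ⊓ (H.map (MulAut.conj y).toMonoidHom) =
      Cfsg.piCore π G := by
  set O := Cfsg.piCore π G with hO
  haveI : O.Normal := Cfsg.piCore_normal _ _
  have hOπ : OddOrder.IsPiGrp π O := OddOrder.isPiGrp_piCore _ _
  have hOH : O ≤ H := by
    by_contra hle
    have h1 : H.relIndex (H ⊔ O) ≠ 1 := fun h =>
      hle ((le_sup_right : O ≤ H ⊔ O).trans (relIndex_eq_one.1 h))
    obtain ⟨r, hr, hd⟩ := Nat.exists_prime_and_dvd h1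
    have h3 := PCore.card_sup_dvd O H
    rw [sup_comm O H, ← relIndex_bot_left (H ⊔ O), ← relIndex_mul_relIndex ⊥ H (H ⊔ O) bot_le le_sup_left,
      relIndex_bot_left, mul_comm (Nat.card O)] at h3
    have hrπ : r ∈ π := hOπ r hr (hd.trans (Nat.dvd_of_mul_dvd_mul_left Nat.card_pos h3))
    exact hH.2 r hr hrπ (hd.trans (relIndex_dvd_index_of_le le_sup_left))
  let q := QuotientGroup.mk' O
  have hserQ := hasPiSeries_quotient hser O
  have hcore : Cfsg.piCore π (G ⧸ O) = ⊥ := by
    set R := Cfsg.piCore π (G ⧸ O) with hR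
    haveI : R.Normal := Cfsg.piCore_normal _ _
    have hle : R.comap q ≤ O := le_sSup ⟨Subgroup.Normal.comap inferInstance q, fun r hr hd => by
      have h1 : Nat.card (R.comap q) = Nat.card O * Nat.card R := by
        have h1 := O.card_mul_index
        have h2 := R.card_mul_index
        have h3 := (R.comap q).card_mul_index
        rw [index_comap_of_surjective R (QuotientGroup.mk'_surjective O)] at h3
        have h4 : O.index = Nat.card (G ⧸ O) := rfl
        rw [h4, ← h2, ← mul_assoc, ← h3] at h1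
        exact (Nat.eq_of_mul_eq_mul_right (Nat.pos_of_ne_zero index_ne_zero_of_finite) h1).symm
      rw [h1] at hd
      rcases hr.dvd_mul.1 hd with h | h
      · exact hOπ r hr h
      · exact OddOrder.isPiGrp_piCore π _ r hr h⟩
    refine eq_bot_iff.2 fun z hz => ?_
    obtain ⟨g, rfl⟩ := QuotientGroup.mk'_surjective O z
    exact mem_bot.2 ((QuotientGroup.eq_one_iff g).2 (hle hz))
  set K := Cfsg.piCore πᶜ (G ⧸ O) with hK
  haveI : K.Normal := Cfsg.piCore_normal _ _
  set A := H.map q with hA
  have hAπ : OddOrder.IsPiGrp π A := OddOrder.IsPiGrp.map (π := π) (H := H) hH.1 q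
  have hcop : (Nat.card A).Coprime (Nat.card K) := Nat.coprime_of_dvd fun r hr h1 h3 =>
    OddOrder.isPiGrp_piCore πᶜ _ r hr h3 (hAπ r hr h1)
  have hdisj : A ⊓ K = ⊥ := Coprime.disjoint_of_coprime_card hcop
  obtain ⟨x₀, hx₀, y₀, hy₀, h⟩ := exists_pair_internal hall (A := A) (K := K)
    (by rw [normalizer_eq_top]; exact le_top) hcop (isSolvable_of_isPiGrp hserQ hAπ) fun a ha hk => by
      have h1 : a ∈ A ⊓ K := ⟨ha, centralizer_piCore_le hserQ hcore
        (mem_centralizer_iff.2 fun k hk' => (hk k hk').symm)⟩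
      rwa [hdisj, mem_bot] at h1
  obtain ⟨x, rfl⟩ := QuotientGroup.mk'_surjective O x₀
  obtain ⟨y, rfl⟩ := QuotientGroup.mk'_surjective O y₀
  have hconj : ∀ g z : G, z ∈ H.map (MulAut.conj g).toMonoidHom ↔ g⁻¹ * z * g ∈ H := fun g z => by
    constructor
    · rintro ⟨k, hk, rfl⟩
      simpa [mul_assoc] using hk
    · exact fun hk => ⟨_, hk, by simp [mul_assoc]⟩
  have hcomm : ∀ g z : G, q g ∈ K → z ∈ H → g⁻¹ * z * g ∈ H → q z * q g = q g * q z := by
    intro g z hg hz hz'
    have h1 : (q z)⁻¹ * q (g⁻¹ * z * g) ∈ A ⊓ K := by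
      refine mem_inf.2 ⟨mul_mem (inv_mem (mem_map_of_mem q hz)) (mem_map_of_mem q hz'), ?_⟩
      rw [map_mul, map_mul, map_inv, ← mul_assoc, ← mul_assoc]
      refine mul_mem ?_ hg
      have := ‹K.Normal›.conj_mem _ (inv_mem hg) (q z)⁻¹
      rwa [inv_inv] at this
    rw [hdisj, mem_bot, inv_mul_eq_one, map_mul, map_mul, map_inv, mul_assoc, eq_inv_mul_iff_mul_eq] at h1
    exact h1.symm
  refine ⟨x, y, le_antisymm (fun z hz => ?_) fun z hz => ?_⟩
  · obtain ⟨⟨hz, hzx⟩, hzy⟩ := hz
    have h1 := h (q z) (mem_map_of_mem q hz) (hcomm x z hx₀ hz ((hconj x z).1 hzx))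
      (hcomm y z hy₀ hz ((hconj y z).1 hzy))
    exact (QuotientGroup.eq_one_iff z).1 h1
  · refine ⟨⟨hOH hz, (hconj x z).2 (hOH ?_)⟩, (hconj y z).2 (hOH ?_)⟩
    · simpa [mul_assoc] using ‹O.Normal›.conj_mem z hz x⁻¹
    · simpa [mul_assoc] using ‹O.Normal›.conj_mem z hz y⁻¹

end PiSolvable

end Cfsg.Agent.CoprimeBase
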